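import Groth.Agent.Zeta.K758.HfConst
import Groth.Agent.Zeta.K467.AffSharp
import Groth.Agent.Zeta.K468.Const
import Groth.Agent.VarietyA.GeomIrrF
import Groth.Agent.Fdesc.GeomRed

/-!
# The sharp Lang–Weil estimate for irreducible affine varieties
-/

set_option autoImplicit false
open MvPolynomial Filter Topology Module
open scoped TensorProduct

namespace K758.CompSharp

open K467.HilbDeg K468.Cnt K758.HfConst

universe u

section abs

variable {K L F D E : Type u} [Field K] [Field L] [Algebra K L] [Field F] [Algebra K F] [CommRing D]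
  [IsDomain D] [Algebra F D] [Algebra K D] [IsScalarTower K F D] [Field E] [Algebra D E]
  [IsFractionRing D E] [Algebra F E] [IsScalarTower F D E] [Algebra K E] [IsScalarTower K F E]
  [IsScalarTower K D E] (j : L →ₐ[K] D)

/-- The inclusion of the function field -/
noncomputable def gg (E : Type u) [Field E] [Algebra D E] [Algebra K E] [IsScalarTower K D E]
    (j : L →ₐ[K] D) : L →ₐ[K] E := (IsScalarTower.toAlgHom K D E).comp j

omit [IsDomain D] [IsScalarTower K F D] in
theorem adjoin_eq_top (hj : Algebra.adjoin F (Set.range j) = ⊤) {N : ℕ} {b : Fin N → L}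
    (hb : IntermediateField.adjoin K (Set.range b) = ⊤) :
    IntermediateField.adjoin F (Set.range fun i => gg E j (b i)) = ⊤ := by
  let S := IntermediateField.adjoin F (Set.range fun i => gg E j (b i))
  have h1 : ∀ l : L, gg E j l ∈ S := by
    intro l
    have hl : l ∈ IntermediateField.adjoin K (Set.range b) := by
      rw [hb]; exact IntermediateField.mem_top
    induction hl using IntermediateField.adjoin_induction with
    | mem x hx =>
      obtain ⟨i, rfl⟩ := hx
      exact IntermediateField.subset_adjoin F _ ⟨i, rfl⟩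
    | algebraMap x =>
      rw [AlgHom.commutes, IsScalarTower.algebraMap_apply K F E]
      exact S.algebraMap_mem _
    | add x y _ _ hx hy => rw [map_add]; exact add_mem hx hy
    | inv x _ hx => rw [map_inv₀]; exact inv_mem hx
    | mul x y _ _ hx hy => rw [map_mul]; exact mul_mem hx hy
  have h2 : ∀ z : D, algebraMap D E z ∈ S := by
    intro z
    have hz : z ∈ Algebra.adjoin F (Set.range j) := by rw [hj]; exact Algebra.mem_top
    induction hz using Algebra.adjoin_induction with
    | mem x hx =>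
      obtain ⟨l, rfl⟩ := hx
      exact h1 l
    | algebraMap r =>
      rw [← IsScalarTower.algebraMap_apply]
      exact S.algebraMap_mem r
    | add x y _ _ hx hy => rw [map_add]; exact add_mem hx hy
    | mul x y _ _ hx hy => rw [map_mul]; exact mul_mem hx hy
  rw [eq_top_iff]
  intro x _
  obtain ⟨a, c, _, rfl⟩ := IsFractionRing.div_surjective (A := D) x
  exact div_mem (h2 a) (h2 c)

omit [IsScalarTower F D E] in
theorem trdeg_eq [FiniteDimensional K F] (hj : Algebra.adjoin F (Set.range j) = ⊤)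
    {R : ℕ} (htr : Algebra.trdeg K L = R) : Algebra.trdeg F E = R := by
  have h1 := trdeg_add_eq K F (A := E)
  rw [trdeg_eq_zero (R := K) (A := F), zero_add] at h1
  rw [h1]
  let algL : Algebra L E := (gg E j).toRingHom.toAlgebra
  have t1 : IsScalarTower K L E := IsScalarTower.of_algebraMap_eq fun x =>
    ((gg E j).commutes x).symm
  let algL' : Algebra L D := j.toRingHom.toAlgebra
  have t2 : IsScalarTower L D E := IsScalarTower.of_algebraMap_eq fun x => rfl
  have t3 : IsScalarTower K L D := IsScalarTower.of_algebraMap_eq fun x => (j.commutes x).symm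
  have h2 : Algebra.IsIntegral L D := by
    refine ⟨fun z => ?_⟩
    have hz : z ∈ Algebra.adjoin F (Set.range j) := by rw [hj]; exact Algebra.mem_top
    induction hz using Algebra.adjoin_induction with
    | mem x hx =>
      obtain ⟨l, rfl⟩ := hx
      exact isIntegral_algebraMap (R := L) (A := D) (x := l)
    | algebraMap r =>
      have h3 : IsIntegral K (algebraMap F D r) := (Algebra.IsIntegral.isIntegral (R := K) r).algebraMap
      exact h3.tower_top
    | add x y _ _ hx hy => exact hx.add hy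
    | mul x y _ _ hx hy => exact hx.mul hy
  have h3 : Algebra.IsAlgebraic D E := IsLocalization.isAlgebraic _ (nonZeroDivisors _)
  have h4 : Algebra.IsAlgebraic L E := Algebra.IsAlgebraic.trans L D _
  have h5 := trdeg_add_eq K L (A := E)
  rw [trdeg_eq_zero (R := L), add_zero, htr] at h5
  exact h5.symm

end abs

section bc

variable {K L : Type u} [Field K] [Field L] [Algebra K L]

theorem isDomain_tensor [PerfectField K]
    (hK : ∀ a : L, IsSeparable K a → a ∈ (algebraMap K L).range)
    (Ω : Type u) [Field Ω] [Algebra K Ω] : IsDomain (Ω ⊗[K] L) := by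
  rw [Groth.Agent.FlatB.GenFibDom.isDomain_iff]
  exact ⟨Groth.Agent.VarietyA.GeomIrr.irreducibleSpace_of_sepClosed_in K L Ω hK,
    Groth.Agent.Fdesc.GeomRed.isReduced_tensor_of_perfectField L Ω⟩

theorem isDomain_cancel [PerfectField K]
    (hK : ∀ a : L, IsSeparable K a → a ∈ (algebraMap K L).range)
    (F Ω : Type u) [Field F] [Algebra K F] [Field Ω] [Algebra F Ω] :
    IsDomain (Ω ⊗[F] (F ⊗[K] L)) := by
  let algΩ : Algebra K Ω := ((algebraMap F Ω).comp (algebraMap K F)).toAlgebra
  have : IsScalarTower K F Ω := IsScalarTower.of_algebraMap_eq fun x => rfl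
  have h1 : IsDomain (Ω ⊗[K] L) := isDomain_tensor hK _
  exact (Algebra.TensorProduct.cancelBaseChange K F F Ω L).toMulEquiv.isDomain _

theorem adjoin_range_includeRight (F : Type u) [Field F] [Algebra K F] :
    Algebra.adjoin F (Set.range (Algebra.TensorProduct.includeRight : L →ₐ[K] F ⊗[K] L)) = ⊤ := by
  have h := Algebra.TensorProduct.adjoin_one_tmul_image_eq_top (R := K) (A := F) (B := L)
    Set.univ (by rw [Algebra.adjoin_univ])
  rw [Set.image_univ] at h
  exact h

theorem phi_range (F E : Type u) [Field F] [Algebra K F]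
    [Field E] [Algebra F E] [Algebra K E] [IsScalarTower K F E] (g : L →ₐ[K] E) {N : ℕ} (b : Fin N → L)
    (Φ : F ⊗[K] (Algebra.adjoin K (Set.range b)) →ₐ[F] E)
    (hΦ : ∀ x : Algebra.adjoin K (Set.range b), Φ (1 ⊗ₜ x) = g x) :
    Φ.range = Algebra.adjoin F (Set.range fun i => g (b i)) := by
  have h0 : Algebra.adjoin K ((Subtype.val : Algebra.adjoin K (Set.range b) → L) ⁻¹' (Set.range b)) = ⊤ :=
    Algebra.adjoin_adjoin_coe_preimage
  have h1 : Algebra.adjoin F ((fun x => (1 : F) ⊗ₜ[K] x) ''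
      ((Subtype.val : Algebra.adjoin K (Set.range b) → L) ⁻¹' (Set.range b))) = ⊤ :=
    Algebra.TensorProduct.adjoin_one_tmul_image_eq_top _ h0
  have h2 : Φ.range = (⊤ : Subalgebra F _).map Φ := (Algebra.map_top Φ).symm
  rw [← h1, AlgHom.map_adjoin] at h2
  rw [h2]
  congr 1
  ext x
  constructor
  · rintro ⟨_, ⟨y, ⟨i, hi⟩, rfl⟩, rfl⟩
    refine ⟨i, ?_⟩
    rw [hΦ, ← hi]
  · rintro ⟨i, rfl⟩
    refine ⟨1 ⊗ₜ ⟨b i, Algebra.subset_adjoin ⟨i, rfl⟩⟩, ⟨⟨b i, Algebra.subset_adjoin ⟨i, rfl⟩⟩,
      ⟨i, rfl⟩, rfl⟩, ?_⟩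
    rw [hΦ]

theorem natCard_points (F E : Type u) [Field F] [Algebra K F] [Field E] [Algebra (F ⊗[K] L) E]
    [FaithfulSMul (F ⊗[K] L) E] [Algebra F E] [IsScalarTower F (F ⊗[K] L) E] [Algebra K E]
    [IsScalarTower K F E]
    [IsScalarTower K (F ⊗[K] L) E] {N : ℕ} (b : Fin N → L) :
    Nat.card (Algebra.adjoin F (Set.range fun i =>
      gg E (Algebra.TensorProduct.includeRight : L →ₐ[K] F ⊗[K] L) (b i)) →ₐ[F] F) =
      Nat.card (Algebra.adjoin K (Set.range b) →ₐ[K] F) := by
  let T := Algebra.adjoin K (Set.range b)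
  let Φ : F ⊗[K] T →ₐ[F] E :=
    (IsScalarTower.toAlgHom F (F ⊗[K] L) E).comp
      (Algebra.TensorProduct.map (AlgHom.id F F) T.val)
  have hΦ : Function.Injective Φ := by
    have h1 : Function.Injective (Algebra.TensorProduct.map (AlgHom.id F F) T.val) :=
      Module.Flat.lTensor_preserves_injective_linearMap (M := F) T.val.toLinearMap
        Subtype.val_injective
    exact (FaithfulSMul.algebraMap_injective (F ⊗[K] L) E).comp h1
  have hΦt : ∀ x : T, Φ (1 ⊗ₜ x) =
      gg E (Algebra.TensorProduct.includeRight : L →ₐ[K] F ⊗[K] L) x := fun x => rfl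
  have hrange := phi_range F E _ b Φ hΦt
  rw [← hrange]
  rw [← Nat.card_congr (AlgEquiv.arrowCongr (AlgEquiv.ofInjective Φ hΦ)
    (AlgEquiv.refl (R := F) (A₁ := F)))]
  exact Nat.card_congr (AlgHom.liftEquiv K F T F).symm

end bc

/-- A number bounding the degree -/
theorem exists_D {x : ℝ} (hx0 : 0 ≤ x) (hx1 : x < 2 → x ≤ 1) : ∃ D : ℕ, 1 ≤ D ∧ x < D + 1 ∧
    ((D : ℝ) - 1) * (D - 2) ≤ (x - 1) * (x - 2) := by
  rcases lt_or_ge x 2 with h | h
  · have h1 := hx1 h
    refine ⟨1, le_rfl, by push_cast; linarith, ?_⟩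
    push_cast
    nlinarith
  · refine ⟨⌊x⌋₊, ?_, Nat.lt_floor_add_one x, ?_⟩
    · exact Nat.le_floor (by push_cast; linarith)
    · have h2 : (⌊x⌋₊ : ℝ) ≤ x := Nat.floor_le hx0
      have h3 : (2 : ℝ) ≤ ⌊x⌋₊ := by
        have : 2 ≤ ⌊x⌋₊ := Nat.le_floor (by push_cast; linarith)
        exact_mod_cast this
      nlinarith

/-- The sharp estimate over the field of constants -/
theorem sharp_const {K L : Type u} [Field K] [Finite K] [Field L] [Algebra K L]
    (hK : ∀ a : L, IsSeparable K a → a ∈ (algebraMap K L).range) {N R : ℕ} (b : Fin N → L)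
    (hb : IntermediateField.adjoin K (Set.range b) = ⊤) (hR : 1 ≤ R) (htr : Algebra.trdeg K L = R)
    {x : ℝ} (hx : Growth K b R x) (hx0 : 0 ≤ x)
    (hx1 : (∀ t, hf K b t ≤ (t + R).choose R) → x ≤ 1) :
    ∃ A : ℝ, 0 ≤ A ∧ ∀ (F : Type u) [Field F] [Finite F] [Algebra K F],
      |(Nat.card (Algebra.adjoin K (Set.range b) →ₐ[K] F) : ℝ) - (Nat.card F : ℝ) ^ R| ≤
        (x - 1) * (x - 2) * ((Nat.card F : ℝ) ^ (R - 1) * Real.sqrt (Nat.card F)) +
          A * (Nat.card F : ℝ) ^ (R - 1) := by
  have hdep : ∀ {F : Type u} [Field F] {E : Type u} [Field E] [Algebra F E]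
      (_ : Algebra.trdeg F E = R) (w : Fin (R + 1) → E), ¬ AlgebraicIndependent F w := by
    intro F _ E _ _ h w hw
    have h1 := hw.lift_cardinalMk_le_trdeg
    rw [h] at h1
    simp only [Cardinal.mk_fin, Cardinal.lift_natCast] at h1
    have h2 : R + 1 ≤ R := by exact_mod_cast h1
    omega
  have hx1' : x < 2 → x ≤ 1 := by
    intro h
    refine hx1 fun t => hf_le_of_DB_one b hb htr ?_ t
    exact DB_of_growth hx 1 (by push_cast; linarith) fun w _ => hdep htr w
  obtain ⟨D, hD1, hxD, hD⟩ := exists_D hx0 hx1'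
  obtain ⟨A, hA, H⟩ := K467.AffSharp.sharp_aff.{u, u} N R D hR hD1
  refine ⟨A, hA, fun F _ _ _ => ?_⟩
  have : PerfectField K := inferInstance
  have dom : IsDomain (F ⊗[K] L) := isDomain_tensor hK F
  have fin : FiniteDimensional K F := inferInstance
  let E : Type u := FractionRing (F ⊗[K] L)
  have t : IsScalarTower F (F ⊗[K] L) E := inferInstance
  have t2 : IsScalarTower K (F ⊗[K] L) E := inferInstance
  let ι : L →ₐ[K] F ⊗[K] L := Algebra.TensorProduct.includeRight
  have hι : Algebra.adjoin F (Set.range ι) = ⊤ := adjoin_range_includeRight F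
  have htrF : Algebra.trdeg F E = R := trdeg_eq ι hι htr
  have h3 : IsDomain (AlgebraicClosure F ⊗[F] (F ⊗[K] L)) := isDomain_cancel hK _ _
  have h1 := H F E (fun i => gg E ι (b i)) (adjoin_eq_top ι hι hb) htrF
    (DB_of_growth (growth_baseChange (F := F) (gg E ι) hx) D hxD fun w _ => hdep htrF w)
    (isDomain_tensor_frac (D := F ⊗[K] L))
  rw [natCard_points] at h1
  refine h1.trans ?_
  have h2 : (0 : ℝ) ≤ (Nat.card F : ℝ) ^ (R - 1) * Real.sqrt (Nat.card F) := by positivity
  have h3 := mul_le_mul_of_nonneg_right hD h2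
  linarith

/-- **The sharp Lang–Weil estimate** for an irreducible affine variety over a finite field `k`; `m` is the
degree over `k` of the field of constants of its function field. -/
theorem main {k L : Type u} [Field k] [Finite k] [Field L] [Algebra k L] {N R : ℕ} (b : Fin N → L)
    (hb : IntermediateField.adjoin k (Set.range b) = ⊤) (hR : 1 ≤ R) (htr : Algebra.trdeg k L = R)
    (d : ℕ) (hd : Tendsto (fun t : ℕ => (hf k b t : ℝ) / (t : ℝ) ^ R) atTop
      (𝓝 ((d : ℝ) / (R.factorial : ℝ)))) :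
    FiniteDimensional k (separableClosure k L) ∧
    ∃ c : ℝ, 0 ≤ c ∧ ∀ (k' : Type u) [Field k'] [Finite k'] [Algebra k k'],
      (finrank k (separableClosure k L) ∣ finrank k k' →
        |(Nat.card (Algebra.adjoin k (Set.range b) →ₐ[k] k') : ℝ) -
          finrank k (separableClosure k L) * (Nat.card k' : ℝ) ^ R| ≤
          ((d : ℝ) - finrank k (separableClosure k L)) * (d - 2 * finrank k (separableClosure k L)) /
            finrank k (separableClosure k L) *
            ((Nat.card k' : ℝ) ^ (R - 1) * Real.sqrt (Nat.card k')) +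
            c * (Nat.card k' : ℝ) ^ (R - 1)) ∧
      (¬ finrank k (separableClosure k L) ∣ finrank k k' →
        (Nat.card (Algebra.adjoin k (Set.range b) →ₐ[k] k') : ℝ) ≤
          c * (Nat.card k' : ℝ) ^ (R - 1)) := by
  classical
  let K := separableClosure k L
  have ess : Algebra.EssFiniteType k L := by
    rw [← IntermediateField.fg_top_iff, ← hb]
    exact IntermediateField.fg_adjoin_of_finite (Set.finite_range b)
  have fK : FiniteDimensional k K :=
    Groth.Agent.Flat2E.FinSepClosure.finiteDimensional_separableClosure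
  refine ⟨fK, ?_⟩
  have : Finite K := Module.finite_of_finite k
  let m := finrank k K
  have hm0 : 0 < m := finrank_pos
  have hm : (0 : ℝ) < m := by exact_mod_cast hm0
  have hf0 : (0 : ℝ) < (R.factorial : ℝ) := by exact_mod_cast Nat.factorial_pos R
  have hbK : IntermediateField.adjoin K (Set.range b) = ⊤ := by
    have h1 : IntermediateField.adjoin k (Set.range b) ≤
        (IntermediateField.adjoin K (Set.range b)).restrictScalars k :=
      IntermediateField.adjoin_le_iff.2 (IntermediateField.subset_adjoin K _)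
    rw [hb] at h1
    rw [eq_top_iff]
    intro x _
    exact h1 (IntermediateField.mem_top (x := x))
  have htrK : Algebra.trdeg K L = R := by
    have e1 := trdeg_add_eq k K (A := L)
    rw [trdeg_eq_zero (R := k) (A := K), zero_add] at e1
    rw [e1, htr]
  have hK : ∀ a : L, IsSeparable K a → a ∈ (algebraMap K L).range := by
    intro a ha
    have h1 : a ∈ separableClosure K L := mem_separableClosure_iff.mpr ha
    rw [separableClosure.separableClosure_eq_bot] at h1
    exact IntermediateField.mem_bot.mp h1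
  have hgr : Growth K b R ((d : ℝ) / m) := growth_const (K := K) b hb hd
  have hx1 : (∀ t, hf K b t ≤ (t + R).choose R) → (d : ℝ) / m ≤ 1 := by
    intro h
    have h1 : Tendsto (fun t : ℕ => (m : ℝ) * (((t + R).choose R : ℝ) / (t : ℝ) ^ R)) atTop
        (𝓝 (m * (1 / (R.factorial : ℝ)))) := (tendsto_choose R).const_mul _
    have h2 : (d : ℝ) / (R.factorial : ℝ) ≤ m * (1 / (R.factorial : ℝ)) := by
      refine le_of_tendsto_of_tendsto' hd h1 fun t => ?_
      rw [← mul_div_assoc]
      refine div_le_div_of_nonneg_right ?_ (by positivity)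
      have h3 : hf k b t ≤ m * (t + R).choose R :=
        (hf_le_mul (K := K) b t).trans (Nat.mul_le_mul_left _ (h t))
      exact_mod_cast h3
    rw [mul_one_div, div_le_div_iff_of_pos_right hf0] at h2
    rwa [div_le_one hm]
  obtain ⟨A, hA, H₂⟩ := sharp_const hK b hbK hR htrK hgr (by positivity) hx1
  -- comparison of the two algebras
  let TK : Subalgebra K L := Algebra.adjoin K (Set.range b)
  have hTK : TK.FG := by
    rw [show TK = Algebra.adjoin K ((Set.finite_range b).toFinset : Set L) by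
      rw [Set.Finite.coe_toFinset]]
    exact Subalgebra.fg_adjoin_finset _
  have ftTK : Algebra.FiniteType K TK := TK.fg_iff_finiteType.mp hTK
  let T : Subalgebra k L := TK.restrictScalars k
  have ftT : Algebra.FiniteType k TK := .trans (S := K) inferInstance inferInstance
  have hT : T.FG := T.fg_iff_finiteType.mpr ftT
  let B : Subalgebra k L := Algebra.adjoin k (Set.range b)
  have hB : B.FG := by
    rw [show B = Algebra.adjoin k ((Set.finite_range b).toFinset : Set L) by
      rw [Set.Finite.coe_toFinset]]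
    exact Subalgebra.fg_adjoin_finset _
  have hle : B ≤ T := Algebra.adjoin_le (Algebra.subset_adjoin (R := K))
  have hBL : ∀ x : L, ∃ a ∈ B, ∃ c ∈ B, c ≠ 0 ∧ x = a / c := by
    intro x
    obtain ⟨r, hr, s, hs, hx⟩ := (IntermediateField.mem_adjoin_iff_div (F := k)
      (S := Set.range b) (x := x)).1 (by rw [hb]; exact IntermediateField.mem_top)
    by_cases h0 : s = 0
    · exact ⟨0, zero_mem _, 1, one_mem _, one_ne_zero, by rw [hx, h0, div_zero, zero_div]⟩
    · exact ⟨r, hr, s, hs, h0, hx⟩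
  obtain ⟨r, rfl⟩ : ∃ r, R = r + 1 := ⟨R - 1, by omega⟩
  obtain ⟨h₁, hh₁, C₁, hC₁, H₁⟩ := bir_le.{u, u} hB hT hle hBL htr
  rw [Nat.add_sub_cancel] at H₂ ⊢
  refine ⟨C₁ + m * A, by positivity, fun F _ _ _ => ?_⟩
  have b1 := H₁ F (algebraMap k F) (by simpa using hh₁)
  rw [show K468.Cnt.N B (algebraMap k F) = Nat.card (B →ₐ[k] F) from N_eq_card_algHom] at b1
  have eT : K468.Cnt.N T (algebraMap k F) =
      ∑ᶠ ψ : {ψ : K →+* F // ψ.comp (algebraMap k K) = algebraMap k F}, K468.Cnt.N TK ψ.1 :=
    N_tower (algebraMap k F) K TK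
  have hψ : ∀ ψ : K →+* F, |(K468.Cnt.N TK ψ : ℝ) - (Nat.card F : ℝ) ^ (r + 1)| ≤
      ((d : ℝ) / m - 1) * ((d : ℝ) / m - 2) * ((Nat.card F : ℝ) ^ r * Real.sqrt (Nat.card F)) +
          A * (Nat.card F : ℝ) ^ r := by
    intro ψ
    let algψ : Algebra K F := ψ.toAlgebra
    have h1 := H₂ F
    rw [← show K468.Cnt.N TK ψ = Nat.card (TK →ₐ[K] F) from N_eq_card_algHom] at h1
    exact h1
  have ftk : Algebra.FiniteType k K := inferInstance
  have finψ : Finite {ψ : K →+* F // ψ.comp (algebraMap k K) = algebraMap k F} :=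
    finite_homs (A := K) (algebraMap k F)
  have := Fintype.ofFinite {ψ : K →+* F // ψ.comp (algebraMap k K) = algebraMap k F}
  rw [finsum_eq_sum_of_fintype] at eT
  have hcard := card_embeddings k K F
  constructor
  · intro h
    rw [if_pos h, Nat.card_eq_fintype_card] at hcard
    have b2 : |(K468.Cnt.N T (algebraMap k F) : ℝ) - m * (Nat.card F : ℝ) ^ (r + 1)| ≤
        m * (((d : ℝ) / m - 1) * ((d : ℝ) / m - 2) *
          ((Nat.card F : ℝ) ^ r * Real.sqrt (Nat.card F)) + A * (Nat.card F : ℝ) ^ r) := by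
      have e3 : (K468.Cnt.N T (algebraMap k F) : ℝ) - m * (Nat.card F : ℝ) ^ (r + 1) =
          ∑ ψ : {ψ : K →+* F // ψ.comp (algebraMap k K) = algebraMap k F},
            ((K468.Cnt.N TK ψ.1 : ℝ) - (Nat.card F : ℝ) ^ (r + 1)) := by
        rw [Finset.sum_sub_distrib, Finset.sum_const, Finset.card_univ, hcard, eT, nsmul_eq_mul]
        push_cast
        rfl
      rw [e3]
      refine (Finset.abs_sum_le_sum_abs _ _).trans ?_
      refine (Finset.sum_le_sum fun ψ _ => hψ ψ.1).trans (le_of_eq ?_)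
      rw [Finset.sum_const, Finset.card_univ, hcard, nsmul_eq_mul]
    have e4 : (Nat.card (B →ₐ[k] F) : ℝ) - m * (Nat.card F : ℝ) ^ (r + 1) =
        ((Nat.card (B →ₐ[k] F) : ℝ) - K468.Cnt.N T (algebraMap k F)) +
        ((K468.Cnt.N T (algebraMap k F) : ℝ) - m * (Nat.card F : ℝ) ^ (r + 1)) := by ring
    change |(Nat.card (B →ₐ[k] F) : ℝ) - m * (Nat.card F : ℝ) ^ (r + 1)| ≤
      ((d : ℝ) - m) * (d - 2 * m) / m * ((Nat.card F : ℝ) ^ r * Real.sqrt (Nat.card F)) +
        (C₁ + m * A) * (Nat.card F : ℝ) ^ r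
    rw [e4]
    refine (abs_add_le _ _).trans ((add_le_add b1 b2).trans (le_of_eq ?_))
    field_simp
    ring
  · intro h
    rw [if_neg h] at hcard
    have hempty : IsEmpty {ψ : K →+* F // ψ.comp (algebraMap k K) = algebraMap k F} := by
      rcases Nat.card_eq_zero.mp hcard with h | h
      · exact h
      · exact absurd h (not_infinite_iff_finite.mpr finψ)
    rw [Finset.univ_eq_empty, Finset.sum_empty] at eT
    rw [eT, Nat.cast_zero, sub_zero, abs_of_nonneg (Nat.cast_nonneg _)] at b1
    change (Nat.card (B →ₐ[k] F) : ℝ) ≤ (C₁ + m * A) * (Nat.card F : ℝ) ^ r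
    refine b1.trans ?_
    have : (0 : ℝ) ≤ m * A * (Nat.card F : ℝ) ^ r := by positivity
    linarith

/-- The same in the form `K467.Comp77.CompThm`. -/
theorem compThm (k : Type u) [Field k] [Finite k] (L : Type u) [Field L] [Algebra k L] {N : ℕ}
    (b : Fin N → L) (R d m : ℕ) (hR : 1 ≤ R) (hb : IntermediateField.adjoin k (Set.range b) = ⊤)
    (htr : Algebra.trdeg k L = (R : Cardinal.{u}))
    (hd : Tendsto (fun t : ℕ => (hf k b t : ℝ) / (t : ℝ) ^ R) atTop (𝓝 ((d : ℝ) / (R.factorial : ℝ))))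
    (hm : m = Module.finrank k (separableClosure k L)) :
    ∃ c : ℝ, ∀ (k' : Type u) [Field k'] [Algebra k k'] [Finite k'],
      (m ∣ Module.finrank k k' →
        |(Nat.card (Algebra.adjoin k (Set.range b) →ₐ[k] k') : ℝ) - m * (Nat.card k' : ℝ) ^ R| ≤
          (((d : ℝ) - m) * (d - 2 * m) / m) * ((Nat.card k' : ℝ) ^ (R - 1) * Real.sqrt (Nat.card k')) +
            c * (Nat.card k' : ℝ) ^ (R - 1)) ∧
      (¬ m ∣ Module.finrank k k' →
        (Nat.card (Algebra.adjoin k (Set.range b) →ₐ[k] k') : ℝ) ≤ c * (Nat.card k' : ℝ) ^ (R - 1)) := by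
  subst hm
  obtain ⟨_, c, _, h⟩ := main b hb hR htr d hd
  exact ⟨c, fun k' _ _ _ => h k'⟩

end K758.CompSharp
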