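import Groth.Agent.Zeta.K467.HilbDeg
import Mathlib.FieldTheory.IntermediateField.Adjoin.Basic
import Mathlib.RingTheory.TensorProduct.Free

/-!
# Hilbert functions of affine varieties and the field of constants
-/

set_option autoImplicit false
open MvPolynomial Filter Topology Module
open scoped TensorProduct

namespace K758.HfConst

open K467.HilbDeg

universe u v w

section basic

variable {k : Type u} [Field k] {L : Type v} [Field L] [Algebra k L] {N : ℕ}

/-- The value of a monomial. -/
def mv (b : Fin N → L) (a : Fin N →₀ ℕ) : L := a.prod fun i e => b i ^ e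

theorem aeval_monomial_one (b : Fin N → L) (a : Fin N →₀ ℕ) :
    aeval (R := k) b (monomial a 1) = mv b a := by
  rw [aeval_monomial, map_one, one_mul]
  rfl

/-- The space of values of the polynomials of degree at most `t` -/
noncomputable def V (k : Type u) [Field k] {L : Type v} [Field L] [Algebra k L] (b : Fin N → L)
    (t : ℕ) : Submodule k L :=
  (restrictTotalDegree (Fin N) k t).map (aeval b : MvPolynomial (Fin N) k →ₐ[k] L).toLinearMap

theorem hf_eq (b : Fin N → L) (t : ℕ) : hf k b t = finrank k (V k b t) := rfl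

instance (b : Fin N → L) (t : ℕ) : Module.Finite k (V k b t) := finite_map b t

theorem V_eq_span (b : Fin N → L) (t : ℕ) : V k b t = Submodule.span k (mv b '' mons N t) := by
  have h : restrictTotalDegree (Fin N) k t = Submodule.span k ((monomial · (1 : k)) '' mons N t) :=
    restrictSupport_eq_span _ _
  rw [V, h, Submodule.map_span, ← Set.image_comp]
  congr 1
  refine Set.image_congr fun a _ => ?_
  exact aeval_monomial_one b a

theorem mv_mem (b : Fin N → L) {t : ℕ} {a : Fin N →₀ ℕ} (ha : a ∈ mons N t) : mv b a ∈ V k b t := by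
  rw [V_eq_span]
  exact Submodule.subset_span ⟨a, ha, rfl⟩

theorem V_mono (b : Fin N → L) {s t : ℕ} (h : s ≤ t) : V k b s ≤ V k b t := by
  rw [V_eq_span, V_eq_span]
  refine Submodule.span_mono (Set.image_mono fun a ha => ?_)
  exact le_trans (show (a.sum fun _ e => e) ≤ s from ha) h

theorem exists_mem_V (b : Fin N → L) {x : L} (hx : x ∈ Algebra.adjoin k (Set.range b)) :
    ∃ t, x ∈ V k b t := by
  rw [Algebra.adjoin_range_eq_range_aeval] at hx
  obtain ⟨G, rfl⟩ := hx
  refine ⟨G.totalDegree, ⟨G, ?_, rfl⟩⟩
  rw [SetLike.mem_coe, mem_restrictTotalDegree]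

theorem mul_mem_V (b : Fin N → L) {s t : ℕ} {x y : L} (hx : x ∈ V k b s) (hy : y ∈ V k b t) :
    x * y ∈ V k b (s + t) := by
  obtain ⟨G, hG, rfl⟩ := hx
  obtain ⟨H, hH, rfl⟩ := hy
  refine ⟨G * H, ?_, map_mul (aeval b : MvPolynomial (Fin N) k →ₐ[k] L) G H⟩
  rw [SetLike.mem_coe, mem_restrictTotalDegree] at hG hH ⊢
  exact (totalDegree_mul _ _).trans (add_le_add hG hH)

/-- A common denominator for a finite extension contained in `L`. -/
theorem exists_denominator (b : Fin N → L) (hb : IntermediateField.adjoin k (Set.range b) = ⊤)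
    {n : ℕ} (e : Fin n → L) : ∃ h : L, h ≠ 0 ∧ ∃ c, ∀ j, h * e j ∈ V k b c := by
  classical
  have h1 : ∀ x : L, ∃ r ∈ Algebra.adjoin k (Set.range b), ∃ s ∈ Algebra.adjoin k (Set.range b),
      s ≠ 0 ∧ s * x = r := by
    intro x
    obtain ⟨r, hr, s, hs, rfl⟩ := (IntermediateField.mem_adjoin_iff_div (F := k)
      (S := Set.range b) (x := x)).1 (by rw [hb]; exact IntermediateField.mem_top)
    by_cases h0 : s = 0
    · exact ⟨0, zero_mem _, 1, one_mem _, one_ne_zero, by rw [h0, div_zero, mul_zero]⟩
    · exact ⟨r, hr, s, hs, h0, by field_simp⟩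
  choose r hr s hs hs0 heq using fun j => h1 (e j)
  have h2 : ∀ j, (∏ i, s i) * e j ∈ Algebra.adjoin k (Set.range b) := by
    intro j
    rw [← Finset.mul_prod_erase Finset.univ s (Finset.mem_univ j)]
    have h3 : s j * (∏ i ∈ Finset.univ.erase j, s i) * e j = r j * ∏ i ∈ Finset.univ.erase j, s i := by
      rw [← heq j]; ring
    rw [h3]
    exact mul_mem (hr j) (prod_mem fun i _ => hs i)
  choose t ht using fun j => exists_mem_V b (h2 j)
  refine ⟨∏ i, s i, Finset.prod_ne_zero_iff.2 fun i _ => hs0 i, Finset.univ.sup t, fun j => ?_⟩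
  exact V_mono b (Finset.le_sup (Finset.mem_univ j)) (ht j)

end basic

section const

variable {k : Type u} [Field k] {K : Type w} [Field K] [Algebra k K] [FiniteDimensional k K]
  {L : Type v} [Field L] [Algebra k L] [Algebra K L] [IsScalarTower k K L] {N : ℕ}

omit [FiniteDimensional k K] in
theorem V_le (b : Fin N → L) (t : ℕ) : V k b t ≤ (V K b t).restrictScalars k := by
  rw [V_eq_span, Submodule.span_le]
  rintro _ ⟨a, ha, rfl⟩
  exact mv_mem b ha

omit [FiniteDimensional k K] in
theorem finrank_V (b : Fin N → L) (t : ℕ) :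
    finrank k K * finrank K (V K b t) = finrank k ((V K b t).restrictScalars k) :=
  Module.finrank_mul_finrank k K (V K b t)

instance finite_restrict' (b : Fin N → L) (t : ℕ) :
    Module.Finite k ((V K b t).restrictScalars k) :=
  show Module.Finite k (V K b t) from .trans K _

theorem hf_le_mul (b : Fin N → L) (t : ℕ) : hf k b t ≤ finrank k K * hf K b t := by
  rw [hf_eq, hf_eq, finrank_V]
  exact Submodule.finrank_mono (V_le b t)

omit [Algebra k K] [FiniteDimensional k K] [IsScalarTower k K L] in
theorem mul_mem_of {b : Fin N → L} {h : L} {c : ℕ} (hc : ∀ l : K, h * algebraMap K L l ∈ V k b c)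
    (t : ℕ) {x : L} (hx : x ∈ V K b t) : h * x ∈ V k b (c + t) := by
  rw [V_eq_span] at hx
  suffices H : ∀ l : K, h * (l • x) ∈ V k b (c + t) by simpa using H 1
  induction hx using Submodule.span_induction with
  | mem x hx =>
    obtain ⟨a, ha, rfl⟩ := hx
    intro l
    rw [Algebra.smul_def, ← mul_assoc]
    exact mul_mem_V b (hc l) (mv_mem b ha)
  | zero => intro l; rw [smul_zero, mul_zero]; exact zero_mem _
  | add x y _ _ hx hy => intro l; rw [smul_add, mul_add]; exact add_mem (hx l) (hy l)
  | smul m x _ hx => intro l; rw [smul_smul]; exact hx _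

theorem exists_mul_hf_le (b : Fin N → L) (hb : IntermediateField.adjoin k (Set.range b) = ⊤) :
    ∃ c, ∀ t, finrank k K * hf K b t ≤ hf k b (c + t) := by
  let e := Module.finBasis k K
  obtain ⟨h, h0, c, hc⟩ := exists_denominator b hb (fun j => algebraMap K L (e j))
  have hc' : ∀ l : K, h * algebraMap K L l ∈ V k b c := by
    intro l
    rw [← e.sum_repr l, map_sum, Finset.mul_sum]
    refine sum_mem fun j _ => ?_
    have h1 : h * algebraMap K L (e.repr l j • e j) = e.repr l j • (h * algebraMap K L (e j)) := by
      rw [Algebra.smul_def, Algebra.smul_def, map_mul, ← IsScalarTower.algebraMap_apply]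
      ring
    rw [h1]
    exact Submodule.smul_mem _ _ (hc j)
  refine ⟨c, fun t => ?_⟩
  rw [hf_eq, hf_eq, finrank_V]
  let φ : ((V K b t).restrictScalars k) →ₗ[k] V k b (c + t) :=
    ((LinearMap.mulLeft k h).domRestrict _).codRestrict _ fun x => mul_mem_of hc' t x.2
  refine LinearMap.finrank_le_finrank_of_injective (f := φ) ?_
  intro x y hxy
  apply Subtype.ext
  have h1 : h * (x : L) = h * (y : L) := congrArg Subtype.val hxy
  exact mul_left_cancel₀ h0 h1

/-- The growth of the Hilbert function over the field of constants. -/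
theorem growth_const (b : Fin N → L) (hb : IntermediateField.adjoin k (Set.range b) = ⊤) {R : ℕ}
    {d : ℝ} (hd : Tendsto (fun t : ℕ => (hf k b t : ℝ) / (t : ℝ) ^ R) atTop
      (𝓝 (d / (R.factorial : ℝ)))) :
    Growth K b R (d / finrank k K) := by
  obtain ⟨c, hc⟩ := exists_mul_hf_le (K := K) b hb
  intro ε hε
  have hm : (0 : ℝ) < finrank k K := by exact_mod_cast finrank_pos
  have hf0 : (0 : ℝ) < (R.factorial : ℝ) := by exact_mod_cast Nat.factorial_pos R
  -- shift
  have h1 : Tendsto (fun t : ℕ => (hf k b (c + t) : ℝ) / (t : ℝ) ^ R) atTop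
      (𝓝 (d / (R.factorial : ℝ))) := by
    have h2 : Tendsto (fun t : ℕ => (hf k b (c + t) : ℝ) / ((c + t : ℕ) : ℝ) ^ R) atTop
        (𝓝 (d / (R.factorial : ℝ))) :=
      hd.comp (tendsto_atTop_mono (fun t => Nat.le_add_left t c) tendsto_id)
    have h3 : Tendsto (fun t : ℕ => (1 + (c : ℝ) / t) ^ R) atTop (𝓝 ((1 + 0) ^ R)) :=
      (tendsto_const_nhds.add (tendsto_const_div_atTop_nhds_zero_nat (c : ℝ))).pow R
    have h4 := h2.mul h3
    rw [add_zero, one_pow, mul_one] at h4
    refine h4.congr' ?_
    filter_upwards [eventually_ge_atTop 1] with t ht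
    have ht0 : (0 : ℝ) < t := by exact_mod_cast ht
    have hct : (0 : ℝ) < ((c + t : ℕ) : ℝ) := by exact_mod_cast (by omega : 0 < c + t)
    have h5 : (1 + (c : ℝ) / t) = ((c + t : ℕ) : ℝ) / t := by
      push_cast
      field_simp
      ring
    rw [h5, div_pow]
    field_simp
  have h2 : ∀ᶠ t : ℕ in atTop, (hf k b (c + t) : ℝ) / (t : ℝ) ^ R <
      d / (R.factorial : ℝ) + finrank k K * ε :=
    h1.eventually_lt_const (by nlinarith)
  filter_upwards [h2, eventually_ge_atTop 1] with t h3 ht
  have ht0 : (0 : ℝ) < (t : ℝ) ^ R := by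
    have : (0 : ℝ) < t := by exact_mod_cast ht
    positivity
  rw [div_lt_iff₀ ht0] at h3
  have h4 : (finrank k K : ℝ) * hf K b t ≤ hf k b (c + t) := by exact_mod_cast hc t
  have h5 : (finrank k K : ℝ) * hf K b t ≤
      (finrank k K : ℝ) * ((d / finrank k K / (R.factorial : ℝ) + ε) * (t : ℝ) ^ R) := by
    refine (h4.trans h3.le).trans (le_of_eq ?_)
    field_simp
  exact le_of_mul_le_mul_left h5 hm

end const

section baseChange

variable {K : Type u} [Field K] {L : Type v} [Field L] [Algebra K L] {N : ℕ}
  {F : Type w} [Field F] [Algebra K F] {E : Type*} [Field E] [Algebra F E] [Algebra K E]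
  [IsScalarTower K F E] (g : L →ₐ[K] E)

theorem mv_map (b : Fin N → L) (a : Fin N →₀ ℕ) : mv (fun i => g (b i)) a = g (mv b a) := by
  unfold mv
  rw [Finsupp.prod, Finsupp.prod, map_prod]
  simp

/-- The Hilbert function does not increase under field extension. -/
theorem hf_baseChange_le (b : Fin N → L) (t : ℕ) : hf F (fun i => g (b i)) t ≤ hf K b t := by
  rw [hf_eq, hf_eq]
  let e := Module.finBasis K (V K b t)
  have h1 : V F (fun i => g (b i)) t ≤ Submodule.span F (Set.range fun j => g (e j : L)) := by
    rw [V_eq_span, Submodule.span_le]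
    rintro _ ⟨a, ha, rfl⟩
    rw [mv_map, SetLike.mem_coe]
    have h2 : mv b a ∈ V K b t := mv_mem b ha
    have h3 := congrArg (fun x : V K b t => g (x : L)) (e.sum_repr ⟨_, h2⟩)
    dsimp only at h3
    rw [← h3]
    simp only [Submodule.coe_sum, Submodule.coe_smul, map_sum, map_smul]
    refine sum_mem fun j _ => ?_
    rw [← algebraMap_smul F]
    exact Submodule.smul_mem _ _ (Submodule.subset_span ⟨j, rfl⟩)
  have h2 : Module.Finite F (Submodule.span F (Set.range fun j => g (e j : L))) :=
    Module.Finite.span_of_finite F (Set.finite_range _)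
  refine (Submodule.finrank_mono h1).trans ?_
  refine (finrank_range_le_card (R := F) (fun j => g (e j : L))).trans ?_
  rw [Fintype.card_fin]

theorem growth_baseChange {b : Fin N → L} {R : ℕ} {d : ℝ} (h : Growth K b R d) :
    Growth F (fun i => g (b i)) R d := by
  intro ε hε
  filter_upwards [h ε hε] with t ht
  refine le_trans ?_ ht
  exact_mod_cast hf_baseChange_le g b t

end baseChange

section linear

variable {K : Type u} [Field K] {L : Type v} [Field L] [Algebra K L] {N R : ℕ}

theorem eq_linear {n : ℕ} (F : MvPolynomial (Fin n) K) (h : F.totalDegree ≤ 1) :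
    F = C (coeff 0 F) + ∑ i, C (coeff (Finsupp.single i 1) F) * X i := by
  classical
  ext a
  rw [coeff_add, coeff_sum, coeff_C]
  simp only [coeff_C_mul, coeff_X]
  rcases Nat.lt_or_ge 1 a.degree with ha | ha
  · rw [coeff_eq_zero_of_totalDegree_lt]
    · rw [if_neg, zero_add]
      · refine (Finset.sum_eq_zero fun i _ => ?_).symm
        rw [if_neg, mul_zero]
        rintro rfl
        rw [Finsupp.degree_single] at ha
        omega
      · rintro rfl
        rw [map_zero] at ha
        omega
    · refine lt_of_le_of_lt h ?_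
      exact ha
  · rcases Nat.lt_or_ge 0 a.degree with ha' | ha'
    · have h1 : a.degree = 1 := by omega
      obtain ⟨i, rfl⟩ : ∃ i, a = Finsupp.single i 1 := by
        have h2 : a ∈ Set.range (fun i : Fin n => Finsupp.single i 1) := by
          rw [Finsupp.range_single_one]; exact h1
        obtain ⟨i, hi⟩ := h2
        exact ⟨i, hi.symm⟩
      rw [if_neg, zero_add]
      · rw [Finset.sum_eq_single i]
        · rw [if_pos rfl, mul_one]
        · intro j _ hj
          rw [if_neg, mul_zero]
          intro h2
          exact hj (Finsupp.single_left_injective one_ne_zero h2)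
        · intro h2
          exact absurd (Finset.mem_univ i) h2
      · intro h2
        have := congrArg Finsupp.degree h2
        rw [map_zero, h1] at this
        omega
    · have h1 : a = 0 := by
        rw [← Finsupp.degree_eq_zero_iff]
        omega
      subst h1
      rw [if_pos rfl]
      rw [Finset.sum_eq_zero, add_zero]
      intro i _
      rw [if_neg, mul_zero]
      intro h2
      have := congrArg Finsupp.degree h2
      rw [Finsupp.degree_single, map_zero] at this
      omega

/-- A linear relation expresses the first element through the others. -/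
theorem mem_span_of_linear {w : Fin (R + 1) → L} (hw : AlgebraicIndependent K fun i : Fin R => w i.succ)
    (F : MvPolynomial (Fin (R + 1)) K) (hF0 : F ≠ 0) (h : F.totalDegree ≤ 1) (hFw : aeval w F = 0) :
    ∃ (c : K) (l : Fin R → K), w 0 = algebraMap K L c + ∑ i, l i • w i.succ := by
  have hlin := eq_linear F h
  by_cases h0 : coeff (Finsupp.single 0 1) F = 0
  · exfalso
    let G : MvPolynomial (Fin R) K := C (coeff 0 F) +
      ∑ i : Fin R, C (coeff (Finsupp.single i.succ 1) F) * X i
    have h1 : aeval (fun i : Fin R => w i.succ) G = 0 := by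
      rw [hlin] at hFw
      rw [← hFw]
      simp [G, Fin.sum_univ_succ, h0]
    have h2 : G = 0 := by
      apply hw
      rw [h1, map_zero]
    apply hF0
    have h3 : rename Fin.succ G = F := by
      rw [hlin]
      simp [G, Fin.sum_univ_succ, h0]
    rw [← h3, h2, map_zero]
  · rw [hlin] at hFw
    simp only [map_add, map_sum, map_mul, aeval_C, aeval_X, Fin.sum_univ_succ] at hFw
    set a := coeff (Finsupp.single 0 1) F
    refine ⟨- (a⁻¹ * coeff 0 F), fun i => - (a⁻¹ * coeff (Finsupp.single i.succ 1) F), ?_⟩
    have ha : algebraMap K L a ≠ 0 := (map_ne_zero _).2 h0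
    apply mul_left_cancel₀ ha
    rw [mul_add, Finset.mul_sum]
    simp only [Algebra.smul_def, map_neg, map_mul, map_inv₀]
    have h5 : ∀ i : Fin R, algebraMap K L a *
        (-((algebraMap K L a)⁻¹ * algebraMap K L (coeff (Finsupp.single i.succ 1) F)) * w i.succ) =
        - (algebraMap K L (coeff (Finsupp.single i.succ 1) F) * w i.succ) := by
      intro i; field_simp
    rw [Finset.sum_congr rfl fun i _ => h5 i, Finset.sum_neg_distrib]
    have h6 : algebraMap K L a * -((algebraMap K L a)⁻¹ * algebraMap K L (coeff 0 F)) =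
        - algebraMap K L (coeff 0 F) := by field_simp
    rw [h6]
    linear_combination hFw

theorem V_le_of_span {M : ℕ} (b : Fin N → L) (y : Fin M → L)
    (hb : ∀ i, b i ∈ V K y 1) (t : ℕ) : V K b t ≤ V K y t := by
  choose g hg hgb using hb
  rintro _ ⟨G, hG, rfl⟩
  refine ⟨aeval g G, ?_, ?_⟩
  · rw [SetLike.mem_coe, mem_restrictTotalDegree] at hG ⊢
    refine (K467.LinNoether.totalDegree_aeval_le g (fun i => ?_) G).trans hG
    exact (mem_restrictTotalDegree _ _ _).1 (hg i)
  · have h2 : (aeval y : MvPolynomial (Fin M) K →ₐ[K] L).comp (aeval g) = aeval b := by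
      ext i
      simp only [AlgHom.comp_apply, aeval_X]
      exact hgb i
    exact DFunLike.congr_fun h2 G

theorem exists_algebraicIndependent (b : Fin N → L)
    (hb : IntermediateField.adjoin K (Set.range b) = ⊤) (htr : Algebra.trdeg K L = R) :
    ∃ y : Fin R → L, AlgebraicIndependent K y ∧ ∀ i, y i ∈ Set.range b := by
  have halg : Algebra.IsAlgebraic (Algebra.adjoin K (Set.range b)) L := by
    refine ⟨fun x => ?_⟩
    have hx : x ∈ IntermediateField.adjoin K (Set.range b) := by rw [hb]; exact IntermediateField.mem_top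
    have h1 : IsAlgebraic (IntermediateField.adjoin K (Set.range b)) x :=
      isAlgebraic_algebraMap (⟨x, hx⟩ : IntermediateField.adjoin K (Set.range b))
    open scoped IntermediateField.algebraAdjoinAdjoin in
    exact (IsFractionRing.isAlgebraic_iff (Algebra.adjoin K (Set.range b))
      (IntermediateField.adjoin K (Set.range b)) L).2 h1
  obtain ⟨t, ht, htb⟩ := exists_isTranscendenceBasis_subset (R := K) (Set.range b)
  have htfin : t.Finite := (Set.finite_range b).subset ht
  have := htfin.fintype
  have hcard : Fintype.card t = R := by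
    have h4 := htb.lift_cardinalMk_eq_trdeg
    rw [htr] at h4
    have h5 : (Fintype.card t : Cardinal.{v}) = R := by simpa using h4
    exact_mod_cast h5
  let e : Fin R ≃ t := (finCongr hcard.symm).trans (Fintype.equivFin t).symm
  exact ⟨fun i => e i, htb.1.comp e e.injective, fun i => ht (e i).2⟩

/-- If all the relations are linear, the Hilbert function is at most that of affine space. -/
theorem hf_le_of_DB_one (b : Fin N → L)
    (hb : IntermediateField.adjoin K (Set.range b) = ⊤) (htr : Algebra.trdeg K L = R)
    (hDB : DB K b R 1) (t : ℕ) : hf K b t ≤ (t + R).choose R := by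
  obtain ⟨y, hy, hyb⟩ := exists_algebraicIndependent b hb htr
  have h1 : ∀ i, b i ∈ V K y 1 := by
    intro i
    obtain ⟨F, hF0, hFdeg, hFw⟩ := hDB (Fin.cons (b i) y) (fun j => by
      refine Fin.cases ?_ (fun j => ?_) j
      · exact Submodule.subset_span ⟨i, rfl⟩
      · exact Submodule.subset_span (by simpa using hyb j)) (by simpa using hy)
    obtain ⟨c, l, hcl⟩ := mem_span_of_linear (by simpa using hy) F hF0 hFdeg hFw
    simp only [Fin.cons_zero, Fin.cons_succ] at hcl
    refine ⟨C c + ∑ j, C (l j) * X j, ?_, ?_⟩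
    · rw [SetLike.mem_coe, mem_restrictTotalDegree]
      refine (totalDegree_add _ _).trans (max_le ?_ ?_)
      · rw [totalDegree_C]; exact Nat.zero_le _
      · refine totalDegree_finsetSum_le fun j _ => ?_
        refine (totalDegree_mul _ _).trans ?_
        simp
    · rw [hcl]
      simp [Algebra.smul_def]
  rw [hf_eq]
  refine (Submodule.finrank_mono (V_le_of_span b y h1 t)).trans ?_
  have h2 : finrank K (V K y t) ≤ finrank K (restrictTotalDegree (Fin R) K t) := by
    have := LinearMap.finrank_range_le
      (((aeval y : MvPolynomial (Fin R) K →ₐ[K] L).toLinearMap).domRestrict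
        (restrictTotalDegree (Fin R) K t))
    rwa [LinearMap.range_domRestrict] at this
  refine h2.trans ?_
  rw [finrank_restrict, ncard_mons]
  clear h2 h1
  induction t with
  | zero =>
    rw [Finset.sum_range_one, Finset.card_finsuppAntidiag_nat_eq_choose, Finset.card_univ,
      Fintype.card_fin]
    simp
  | succ t ih =>
    rw [Finset.sum_range_succ]
    refine (Nat.add_le_add_right ih _).trans ?_
    rw [Finset.card_finsuppAntidiag_nat_eq_choose, Finset.card_univ, Fintype.card_fin]
    rcases R with _ | R
    · simp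
    · have e1 : R + 1 + (t + 1) - 1 = t + 1 + R := by omega
      have e2 : t + 1 + (R + 1) = (t + 1 + R) + 1 := by omega
      have e3 : t + (R + 1) = t + 1 + R := by omega
      rw [e1, e2, e3, Nat.choose_succ_succ (t + 1 + R) R, Nat.succ_eq_add_one]
      have e4 : (t + 1 + R).choose (t + 1) = (t + 1 + R).choose R := by
        rw [← Nat.choose_symm (by omega : R ≤ t + 1 + R)]
        congr 1
        omega
      rw [e4]
      omega

/-- If all relations are linear, the degree is at most `1`. -/
theorem tendsto_choose (R : ℕ) :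
    Tendsto (fun t : ℕ => ((t + R).choose R : ℝ) / (t : ℝ) ^ R) atTop
      (𝓝 (1 / (R.factorial : ℝ))) := by
  have h0 : ∀ R : ℕ, Tendsto (fun t : ℕ => ((t + R).choose R * R.factorial : ℝ) / (t : ℝ) ^ R) atTop
      (𝓝 1) := by
    intro R
    induction R with
    | zero => simp
    | succ R ih =>
      have h3 : Tendsto (fun t : ℕ => (1 + ((R + 1 : ℕ) : ℝ) / t)) atTop (𝓝 (1 + 0)) :=
        (tendsto_const_nhds.add (tendsto_const_div_atTop_nhds_zero_nat _))
      have h4 := ih.mul h3
      rw [add_zero, mul_one] at h4
      refine h4.congr' ?_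
      filter_upwards [eventually_ge_atTop 1] with t ht
      have ht0 : (0 : ℝ) < t := by exact_mod_cast ht
      have h5 : ((t + (R + 1)).choose (R + 1) : ℝ) * ((R + 1).factorial : ℝ) =
          ((t + R).choose R : ℝ) * (R.factorial : ℝ) * (t + (R + 1 : ℕ)) := by
        have h6 : (t + R + 1) * (t + R).choose R = (t + R + 1).choose (R + 1) * (R + 1) :=
          Nat.add_one_mul_choose_eq (t + R) R
        have h7 : ((t : ℝ) + R + 1) * ((t + R).choose R : ℝ) = ((t + R + 1).choose (R + 1) : ℝ) * (R + 1) := by
          exact_mod_cast h6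
        rw [Nat.factorial_succ, ← Nat.add_assoc t R 1]
        push_cast
        linear_combination (-(R.factorial : ℝ)) * h7
      rw [h5, pow_succ]
      field_simp
  have h1 := (h0 R).div_const (R.factorial : ℝ)
  refine h1.congr fun t => ?_
  have hf0 : (0 : ℝ) < (R.factorial : ℝ) := by exact_mod_cast Nat.factorial_pos R
  field_simp

end linear

end K758.HfConst
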